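import Cfsg.Agent.H820.ElTool
import Cfsg.Agent.S1697
import Cfsg.Agent.BabyM.Fi23B
import Cfsg.Agent.BabyM.Instance
import Cfsg.Agent.BM.KHAll
import Cfsg.Agent.Prune
set_option linter.all false
prune_inst 0x7f00000000000000000000000000000000000000000000000000000000000000000000000000000000000000000000000000000000000000000000000000000000000000000000000000000000000000003fffffffffffffffffffffffffffbeffbdffffffff
open scoped Cfsg.Agent.FastGrp

/-!
# S3403: the row `B`

`Fi23` is a proper simple subgroup.
-/

set_option autoImplicit false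

namespace Cfsg.Agent.H820.ElB

open Subgroup Cfsg Cfsg.Agent.H43.Eleven Cfsg.Spor
open Cfsg.Agent.BabyM.Inst Cfsg.Agent.BabyM.WordsInst Cfsg.Agent.BM.StageW Cfsg.Agent.MonsterX.WordSub
  Cfsg.Agent.MonsterX.WordRels Cfsg.Agent.BabyM.Fi23B

universe u v

/-- `Fi23` is a subgroup of the Baby Monster -/
theorem exists_hom : ∃ f : Cfsg.Spor.Fi23 →* Cfsg.Spor.BabyMonster, Function.Injective f := by
  have A := Cfsg.Agent.BabyM.Instance.all
  have O := Cfsg.Agent.BabyM.Instance.ok
  obtain ⟨K, ⟨e⟩, -⟩ := exists_subgroup Cfsg.Spor.Fi23.edges Cfsg.Spor.Fi23.extra S1697.result.1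
    (fun t => x (Cfsg.Agent.BabyM.Fi23B.m t)) (by
      rintro r (hr | hr)
      · exact cox_lift _ _ (fun s _ t _ => by rw [label]; exact cox A O _ _) r hr
      · exact lift_extra fi23_extra _ (rels A O) r hr) ⟨.g, t2_ne⟩
  refine ⟨(BM.KHAll.iso.symm.toMonoidHom.comp K.subtype).comp e.toMonoidHom, ?_⟩
  exact (BM.KHAll.iso.symm.injective.comp K.subtype_injective).comp e.injective

theorem row : Row Spor.BabyMonster := by
  intro _ P hP hl
  exfalso
  have hc : Nat.card Spor.BabyMonster = 4154781481226426191177580544000000 := BM.KHAll.card_B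
  have h23 : Nat.card Spor.Fi23 = 4089470473293004800 := S1697.result.2
  have hfin : Finite Spor.BabyMonster := Nat.finite_of_card_ne_zero (by rw [hc]; norm_num)
  have hs := S1697.result.1
  obtain ⟨f, hf⟩ := exists_hom
  exact ElTool.false_of_hom hP hl (by rw [hc]; norm_num) hs f hf (by rw [h23]; norm_num) (by rw [h23]; norm_num)
    (by rw [h23, hc]; norm_num) (by rw [h23]; norm_num)

theorem row_B {X : Type u} [Group X] (hX : Spor.IsoB X) : Row X := by
  obtain ⟨e⟩ := hX
  exact row_congr e row

end Cfsg.Agent.H820.ElB
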