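import Cfsg.Agent.H820.ElTool
import Cfsg.Agent.S1698
import Cfsg.Agent.S1697
import Cfsg.Agent.Fischer.Fi24Real
import Cfsg.Agent.Fischer.Fi24Spider
import Cfsg.Agent.Fischer.Fi24Index_m3
import Cfsg.Agent.Prune
set_option linter.all false
prune_inst 0x7f00000000000000000000000000000000000000000000000000000000000000000000000000000000000000000000000000000000000000000000000000000000000000000000000000000000000000003fffffffffffffffffffffffffffbeffbdffffffff
open scoped Cfsg.Agent.FastGrp

/-!
# S3403: the row `Fi24'`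

`Fi23` is a proper simple subgroup.
-/

set_option autoImplicit false

namespace Cfsg.Agent.H820.ElFi24

open Subgroup MulAction Cfsg Cfsg.Agent.H43.Eleven
open Cfsg.Agent.Fischer.Fi24Class (exists_fi23_hom)

universe u v

/-- `Fi23 ≤ Fi24'` -/
theorem exists_hom : ∃ f : Spor.Fi23 →* Spor.Fi24', Function.Injective f := by
  have h97 := Cfsg.Agent.S1697.result
  obtain ⟨-, hst, -⟩ := SporRec.Fi24Index.index_and_suborbits
  obtain ⟨φ, hφ⟩ := exists_fi23_hom (Fischer.Fi24Spider.spider_rel hst)
  have hne : Nat.card (commutator Spor.Fi24) ≠ 1 := by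
    have h98 : Nat.card (commutator Spor.Fi24) = _ := Cfsg.Agent.S1698.result.2
    rw [h98]; norm_num
  have hφ1 : Function.Injective φ := by
    apply Fischer.Fi24Class.injective_of_simple h97.1
    refine ⟨Cfsg.Agent.SporRec.Fi23Rel.gen .a, ?_⟩
    rw [hφ]
    intro h
    apply Fischer.Fi24Class.a_ne_l hne
    have h2 : Fischer.Fi24Rep.gen .a * Fischer.Fi24Rep.gen .l = 1 := h
    rw [mul_eq_one_iff_eq_inv] at h2
    rw [show (Fischer.Fi24Rep.gen .l)⁻¹ = Fischer.Fi24Rep.gen .l from Fischer.Fi24Class.gen_inv .l] at h2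
    exact h2
  have hle : ∀ x, φ x ∈ commutator Spor.Fi24 := by
    intro x
    refine Fischer.Fi24Class.range_le_commutator (Fischer.Fi24Class.perfect_of_simple h97.1 ?_) φ ⟨x, rfl⟩
    rw [h97.2]
    intro hp
    exact absurd ((Nat.prime_dvd_prime_iff_eq Nat.prime_two hp).1 (by norm_num)) (by norm_num)
  refine ⟨φ.codRestrict (commutator Spor.Fi24) hle, ?_⟩
  intro a b hab
  exact hφ1 (congrArg Subtype.val hab)

theorem row : Row Spor.Fi24' := by
  intro _ P hP hl
  exfalso
  have hc : Nat.card Spor.Fi24' = 1255205709190661721292800 := S1698.result.2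
  have h23 : Nat.card Spor.Fi23 = 4089470473293004800 := S1697.result.2
  have hfin : Finite Spor.Fi24' := Nat.finite_of_card_ne_zero (by rw [hc]; norm_num)
  have hs := S1697.result.1
  obtain ⟨f, hf⟩ := exists_hom
  exact ElTool.false_of_hom hP hl (by rw [hc]; norm_num) hs f hf (by rw [h23]; norm_num) (by rw [h23]; norm_num)
    (by rw [h23, hc]; norm_num) (by rw [h23]; norm_num)

theorem row_Fi24' {X : Type u} [Group X] (hX : Spor.IsoFi24' X) : Row X := by
  obtain ⟨e⟩ := hX
  exact row_congr e row

end Cfsg.Agent.H820.ElFi24
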