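import Cfsg.Agent.H821.Frame
import Cfsg.Agent.MonsterU.Uncond
import Cfsg.Agent.MonsterU.Final_m3
import Cfsg.Agent.PreUniq.MonRow
import Cfsg.Agent.FastGrp
import Cfsg.Agent.Prune
set_option linter.all false
prune_inst 0x7f00000000000000000000000000000000000000000000000000000000000000000000000000000000000000000000000000000000000000000000000000000000000000000000000000000000000000003fffffffffffffffffffffffffffbeffbdffffffff
open scoped Cfsg.Agent.FastGrp

/-!
# A group with a chart is the model of the Monster (helper820)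

`exists_iso` : a finite simple group `G` with a chart `Chart Q z eta pi` has an isomorphism onto the model taking `z` to `K.z`.
`card_cent` : `|C(z)| = 2^25 |Co₁|`; `not_dvd_cent` : `7 ^ 3` does not divide the order of the centralizer of an involution.
-/

set_option autoImplicit false
set_option maxRecDepth 100000

namespace Cfsg.Agent.H820.Model

open Cfsg Cfsg.Agent.MonsterX Cfsg.Agent.MonsterX.InstData Cfsg.Agent.MonsterX.MainPack Cfsg.Agent.MonsterU
open Cfsg.Agent.MonsterP Cfsg.Agent.MonsterN Cfsg.Agent.LThreeMB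
open Cfsg.Agent.MonsterX.MainBasic Cfsg.Agent.MonsterX.MainSimple Cfsg.Agent.MonsterX.Model
open Cfsg.Agent.MonsterU.Lam2 (L2 IsType)
open Cfsg.Agent.MonsterU.Ch
open Cfsg.Agent.MonsterU.AmalGen (EE Eab)
open Cfsg.Spor (Co1)
open Subgroup (centralizer mem_centralizer_singleton_iff)

/-! ### The literal hypotheses -/

section

variable {G : Type*} [Group G] {Q : Subgroup G} {z : G} {eta : G → L2}
  {pi : Subgroup.centralizer ({z} : Set G) →* Co1}

theorem ker_pi (h : Chart Q z eta pi) : pi.ker = Q.subgroupOf (centralizer ({z} : Set G)) := by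
  ext c
  rw [MonoidHom.mem_ker, Subgroup.mem_subgroupOf, h.pi_eq_one]

/-- **The order of the centralizer of `z`.** -/
theorem card_cent [Finite G] (h : Chart Q z eta pi) :
    Nat.card ↥(centralizer ({z} : Set G)) = 4157776806543360000 * 2 ^ 25 := by
  rw [Subgroup.card_eq_card_quotient_mul_card_subgroup pi.ker,
    Nat.card_congr (QuotientGroup.quotientKerEquivOfSurjective pi h.pi_surj).toEquiv, CoFrameF.card_Co1, ker_pi h,
    LargeExtra.Nine.ToCent.card_subgroupOf h.large, h.card_Q]

theorem elementary {E C : Subgroup G} {Q' : Subgroup ↥C} (hab : ∀ a ∈ E, ∀ b ∈ E, a * b = b * a)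
    (hsq : ∀ a ∈ E, a * a = 1) : IsElementaryAbelian 2 ((E.subgroupOf C).subgroupOf Q') := by
  refine ⟨⟨⟨?_⟩⟩, ?_⟩
  · rintro ⟨a, ha⟩ ⟨b, hb⟩
    apply Subtype.ext
    apply Subtype.ext
    apply Subtype.ext
    exact hab _ ha _ hb
  · intro a ha
    apply Subtype.ext
    apply Subtype.ext
    rw [pow_two]
    exact hsq _ ha

theorem lit_of_chart [Finite G] [IsSimpleGroup G] (h : Chart Q z eta pi) : Assembly.Lit G := by
  obtain ⟨g, hg, hne, -⟩ := Fused.exists_type_four h
  obtain ⟨σ, τ, gd⟩ := Cfsg.Agent.H821.Frame.exists_good h hg hne ⟨g, rfl⟩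
  have hn := LargeExtra.Nine.ToCent.normal h.large
  have hfin := h.fin
  refine ⟨z, LargeExtra.Base.orderOf_z h.large, Q.subgroupOf (centralizer ({z} : Set G)), hn,
    LargeExtra.Nine.ToCent.isExtraspecial h.large (by rw [h.card_Q]; norm_num), ?_, ?_,
    LargeExtra.Nine.ToCent.centralizer_le h.large, ?_⟩
  · rw [LargeExtra.Nine.ToCent.card_subgroupOf h.large, h.card_Q]
  · have hEQ : EE (h.smul σ) ≤ Q := AmalGen.EQ _
    have hEC : EE (h.smul σ) ≤ centralizer ({z} : Set G) := hEQ.trans (LargeExtra.Nine.ToCent.le_cent h.large)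
    refine ⟨((EE (h.smul σ)).subgroupOf (centralizer ({z} : Set G))).subgroupOf
      (Q.subgroupOf (centralizer ({z} : Set G))),
      elementary (fun a ha b hb => Eab (h.smul σ) a ha b hb) (fun a ha => Cfsg.Agent.H821.Frame.EE_sq gd ha), ?_⟩
    have h1 : (EE (h.smul σ)).subgroupOf (centralizer ({z} : Set G)) ≤ Q.subgroupOf (centralizer ({z} : Set G)) :=
      fun x hx => hEQ hx
    rw [Nat.card_congr (Subgroup.subgroupOfEquivOfLe h1).toEquiv,
      Nat.card_congr (Subgroup.subgroupOfEquivOfLe hEC).toEquiv]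
    exact Cfsg.Agent.H821.Frame.card_EE _
  · exact ⟨(QuotientGroup.quotientMulEquivOfEq (ker_pi h).symm).trans
      (QuotientGroup.quotientKerEquivOfSurjective pi h.pi_surj)⟩

end

/-! ### Two classes of involutions in the model -/

theorem z_eq : KDone.K.z = zG LitFin.all.hG := Subtype.ext KDone.lnk.z_eq.symm

/-- **An involution of the model is conjugate to `z` or its centralizer has the order `2 |B|`.** -/
theorem involution (u : ↥InstData.M.G) (h2 : u * u = 1) (h1 : u ≠ 1) :
    (∃ g, g * KDone.K.z * g⁻¹ = u) ∨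
      Nat.card ↥(centralizer ({u} : Set ↥InstData.M.G)) = 2 * 4154781481226426191177580544000000 := by
  rcases LitFin.all.classes u h2 h1 with ⟨g, hg⟩ | ⟨g, hg⟩
  · exact Or.inl ⟨g, by rw [z_eq, hg]⟩
  · right
    rw [← hg, ClosingModel.card_cent_conj]
    exact card_cent_t LitFin.all.hG LitFin.all.hR LitFin.all.hL LitFin.all.hO LitFin.all.hT

theorem card_cent_z : Nat.card ↥(centralizer ({KDone.K.z} : Set ↥InstData.M.G)) = 4157776806543360000 * 2 ^ 25 := by
  have := PreUniq.MonRow.finite
  exact card_cent (KChart.chart KDone.lft PreUniq.MonRow.cent)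

/-- `7 ^ 3` does not divide the order of the centralizer of an involution of the model. -/
theorem not_dvd_cent (u : ↥InstData.M.G) (h2 : u * u = 1) (h1 : u ≠ 1) :
    ¬ 7 ^ 3 ∣ Nat.card ↥(centralizer ({u} : Set ↥InstData.M.G)) := by
  rcases involution u h2 h1 with ⟨g, hg⟩ | h
  · rw [← hg, ClosingModel.card_cent_conj, card_cent_z]
    norm_num
  · rw [h]
    norm_num

/-! ### The isomorphism -/

universe u

variable {G : Type u} [Group G] {Q : Subgroup G} {z : G} {eta : G → L2}
  {pi : Subgroup.centralizer ({z} : Set G) →* Co1}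

/-- **A finite simple group with a chart is the model.** -/
theorem exists_iso [Finite G] [IsSimpleGroup G] (h : Chart Q z eta pi) :
    ∃ f : G ≃* ↥InstData.M.G, f z = KDone.K.z := by
  obtain ⟨f₀⟩ := Uncond.all.uniq Uncond.embSt (lit_of_chart h)
  have h1 : f₀ z ≠ 1 := by
    intro h1
    exact h.large.z_ne (f₀.injective (h1.trans (map_one f₀).symm))
  have h2 : f₀ z * f₀ z = 1 := by rw [← map_mul, h.large.z_sq, map_one]
  rcases involution (f₀ z) h2 h1 with ⟨g, hg⟩ | h3
  · refine ⟨f₀.trans (MulAut.conj g⁻¹), ?_⟩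
    show g⁻¹ * f₀ z * g⁻¹⁻¹ = KDone.K.z
    rw [← hg]
    group
  · exfalso
    have h4 := Nat.card_congr (Transfer.centralizerEquiv f₀ (f₀ z)).toEquiv
    rw [h3, MulEquiv.symm_apply_apply, card_cent h] at h4
    norm_num at h4

/-- `7 ^ 3` does not divide the order of the centralizer of an involution. -/
theorem not_dvd [Finite G] [IsSimpleGroup G] (h : Chart Q z eta pi) {u : G} (h2 : u * u = 1) (h1 : u ≠ 1) :
    ¬ 7 ^ 3 ∣ Nat.card ↥(centralizer ({u} : Set G)) := by
  obtain ⟨f, -⟩ := exists_iso h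
  have h4 := Nat.card_congr (Transfer.centralizerEquiv f (f u)).toEquiv
  rw [MulEquiv.symm_apply_apply] at h4
  rw [h4]
  refine not_dvd_cent (f u) (by rw [← map_mul, h2, map_one]) fun h3 => h1 ?_
  exact f.injective (h3.trans (map_one f).symm)

end Cfsg.Agent.H820.Model
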