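import Cfsg.Agent.H820.Bridge
import Cfsg.Agent.MonsterU.AmalSideOf
import Cfsg.Agent.MonsterU.CoFrameF
import Cfsg.Agent.MonsterU.CoFrameL2
import Cfsg.Agent.LThreeMB.FusX
import Cfsg.Agent.Prune
set_option linter.all false
prune_inst 0x7f00000000000000000000000000000000000000000000000000000000000000000000000000000000000000000000000000000000000000000000000000000000000000000000000000000000000000003fffffffffffffffffffffffffffbeffbdffffffff
open scoped Cfsg.Agent.FastGrp

/-!
# The joint centralizer of `z` and a conjugate of `z` in `Q` (helper820)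

`h : Chart Q z eta pi`, `s ∈ Q` over a vector of type 4: `jpi : C({z, s}) → Co₁` has image the stabiliser of `eta s` and kernel a
2-group; `card_joint` : `|C({z, s})| = 2 ^ k * (2048 * 244823040)`.  `quot_eq` : replacing `C_G(B) / B` by `XX x` for `B = ⟨x⟩`.
-/

set_option autoImplicit false

namespace Cfsg.Agent.H820.Joint

open Cfsg Cfsg.Spor Cfsg.Agent.MonsterU Cfsg.Agent.MonsterU.Ch Cfsg.Agent.MonsterU.Lam2
open Cfsg.Agent.MonsterU.CoFrameL2 (f0)
open Cfsg.Agent.LThreeMB (XX Zx self)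
open Subgroup (centralizer mem_centralizer_singleton_iff zpowers)

variable {G : Type*} [Group G]

theorem mem_joint {z s g : G} : g ∈ centralizer ({z, s} : Set G) ↔ z * g = g * z ∧ s * g = g * s := by
  rw [Subgroup.mem_centralizer_iff]
  constructor
  · intro h
    exact ⟨h z (Or.inl rfl), h s (Or.inr rfl)⟩
  · rintro ⟨h1, h2⟩ y (rfl | rfl)
    · exact h1
    · exact h2

theorem joint_le (z s : G) : centralizer ({z, s} : Set G) ≤ centralizer ({z} : Set G) := fun _ hg =>
  mem_centralizer_singleton_iff.2 (mem_joint.1 hg).1.symm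

/-- the map of the joint centralizer -/
def jpi {z : G} (pi : centralizer ({z} : Set G) →* Co1) (s : G) : ↥(centralizer ({z, s} : Set G)) →* Co1 :=
  pi.comp (Subgroup.inclusion (joint_le z s))

variable {Q : Subgroup G} {z : G} {eta : G → L2} {pi : centralizer ({z} : Set G) →* Co1}

theorem jpi_apply (s : G) (c : ↥(centralizer ({z, s} : Set G))) : jpi pi s c = pi ⟨c, joint_le z s c.2⟩ := rfl

/-- elements commuting with `s` fix `eta s` -/
theorem smul_eta (h : Chart Q z eta pi) {s : G} (hs : s ∈ Q) {c : centralizer ({z} : Set G)}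
    (hc : (c : G) * s = s * c) : pi c • eta s = eta s := by
  rw [← h.eta_conj c s hs, hc, mul_inv_cancel_right]

theorem range_jpi (h : Chart Q z eta pi) {s : G} (hs : s ∈ Q) (hs1 : s ≠ 1) (hsz : s ≠ z) :
    (jpi pi s).range = MulAction.stabilizer Co1 (eta s) := by
  ext t
  rw [MulAction.mem_stabilizer_iff]
  constructor
  · rintro ⟨c, rfl⟩
    exact smul_eta h hs (c := ⟨c, joint_le z s c.2⟩) (mem_joint.1 c.2).2.symm
  · intro ht
    obtain ⟨c, hc, rfl⟩ := Fused.exists_lift h hs hs1 hsz ht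
    exact ⟨⟨c, mem_joint.2 ⟨(mem_centralizer_singleton_iff.1 c.2).symm, hc.symm⟩⟩, rfl⟩

theorem mem_ker_jpi (h : Chart Q z eta pi) {s : G} (c : ↥(centralizer ({z, s} : Set G))) :
    c ∈ (jpi pi s).ker ↔ (c : G) ∈ Q := by
  rw [MonoidHom.mem_ker, jpi_apply, h.pi_eq_one]

theorem card_ker_jpi (h : Chart Q z eta pi) (s : G) : ∃ k : ℕ, Nat.card ↥(jpi pi s).ker = 2 ^ k := by
  have hfin := h.fin
  have hinj : Function.Injective (fun c : ↥(jpi pi s).ker => (⟨(c : ↥(centralizer ({z, s} : Set G))),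
      (mem_ker_jpi h c.1).1 c.2⟩ : ↥Q)) := by
    intro a b hab
    exact Subtype.ext (Subtype.ext (congrArg (fun q : ↥Q => (q : G)) hab))
  let f : ↥(jpi pi s).ker →* ↥Q :=
    { toFun := fun c => ⟨(c : ↥(centralizer ({z, s} : Set G))), (mem_ker_jpi h c.1).1 c.2⟩
      map_one' := rfl
      map_mul' := fun _ _ => rfl }
  have h1 := Subgroup.card_dvd_of_injective f hinj
  rw [h.card_Q] at h1
  obtain ⟨k, -, hk⟩ := (Nat.dvd_prime_pow Nat.prime_two).1 h1
  exact ⟨k, hk⟩

/-- the order of the stabiliser of a vector of type 4 -/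
theorem card_stab {v : L2} (hv : IsType 4 v) : Nat.card ↥(MulAction.stabilizer Co1 v) = 2048 * 244823040 := by
  obtain ⟨g, hg⟩ := AmalSideOf.exists_smul_f0 hv
  have h1 : MulAction.stabilizer Co1 f0 = (MulAction.stabilizer Co1 v).map (MulAut.conj g).toMonoidHom := by
    rw [← hg, MulAction.stabilizer_smul_eq_stabilizer_map_conj]
  have h2 : MulAction.stabilizer Co1 f0 = CoFrameF.F := by
    ext t
    rw [MulAction.mem_stabilizer_iff]
    exact (CoFrameL2.mem_F_iff t).symm
  rw [← CoFrameF.card_F, ← h2, h1]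
  exact Nat.card_congr ((MulAction.stabilizer Co1 v).equivMapOfInjective _ (MulAut.conj g).injective).toEquiv

/-- **The order of the joint centralizer.** -/
theorem card_joint (h : Chart Q z eta pi) {s : G} (hs : s ∈ Q) (h4 : IsType 4 (eta s)) (hs1 : s ≠ 1) (hsz : s ≠ z) :
    ∃ k : ℕ, Nat.card ↥(centralizer ({z, s} : Set G)) = 2 ^ k * (2048 * 244823040) := by
  obtain ⟨k, hk⟩ := card_ker_jpi h s
  refine ⟨k, ?_⟩
  rw [Subgroup.card_eq_card_quotient_mul_card_subgroup (jpi pi s).ker, hk, mul_comm,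
    Nat.card_congr (QuotientGroup.quotientKerEquivRange (jpi pi s)).toEquiv, range_jpi h hs hs1 hsz, card_stab h4]

theorem factorization_seven (h : Chart Q z eta pi) {s : G} (hs : s ∈ Q) (h4 : IsType 4 (eta s)) (hs1 : s ≠ 1)
    (hsz : s ≠ z) : (Nat.card ↥(centralizer ({z, s} : Set G))).factorization 7 = 1 := by
  obtain ⟨k, hk⟩ := card_joint h hs h4 hs1 hsz
  have h1 : Nat.card ↥(centralizer ({z, s} : Set G)) = 7 * (2 ^ k * 71628226560 * 1) := by
    rw [hk]; ring
  have h3 : ¬ 7 ∣ 2 ^ k * 71628226560 * 1 := by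
    intro hd
    rw [mul_one] at hd
    rcases (Nat.Prime.dvd_mul (by norm_num : Nat.Prime 7)).1 hd with h4 | h4
    · have := (Nat.Prime.dvd_of_dvd_pow (by norm_num : Nat.Prime 7) h4)
      omega
    · omega
  rw [h1, Nat.factorization_mul (by norm_num) (by positivity), Finsupp.add_apply,
    Nat.Prime.factorization_self (by norm_num), Nat.factorization_eq_zero_of_not_dvd h3]

/-- a nontrivial vector of type 4 is not zero -/
theorem ne_of_type_four (h : Chart Q z eta pi) {s : G} (h4 : IsType 4 (eta s)) : s ≠ 1 ∧ s ≠ z ∧ eta s ≠ 0 := by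
  have h0 : eta s ≠ 0 := fun h0 => LThreeMB.not_type_four_zero (h0 ▸ h4)
  refine ⟨?_, ?_, h0⟩
  · rintro rfl
    exact h0 h.eta_one
  · rintro rfl
    exact h0 h.eta_z

/-! ### Cyclic subgroups -/

theorem centralizer_zpowers_coe (x : G) : centralizer ((zpowers x : Subgroup G) : Set G) = centralizer ({x} : Set G) := by
  ext g
  rw [mem_centralizer_singleton_iff, Subgroup.mem_centralizer_iff]
  constructor
  · intro h
    exact (h x (Subgroup.mem_zpowers x)).symm
  · rintro h _ ⟨i, rfl⟩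
    have h1 : Commute x g := h.symm
    exact (h1.zpow_left i)

theorem subgroupOf_eq (x : G) : (zpowers x).subgroupOf (centralizer ({x} : Set G)) = Zx x := by
  ext g
  rw [Subgroup.mem_subgroupOf, Zx, Subgroup.mem_zpowers_iff, Subgroup.mem_zpowers_iff]
  constructor
  · rintro ⟨i, hi⟩
    exact ⟨i, Subtype.ext hi⟩
  · rintro ⟨i, hi⟩
    exact ⟨i, congrArg Subtype.val hi⟩

/-- **Replacing `C_G(B) / B` by `XX x`.** -/
theorem quot_eq.{u} {G : Type u} [Group G] (P : (K : Type u) → [Group K] → Prop) {B : Subgroup G} {x : G}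
    (hB : B = zpowers x) [hn : (B.subgroupOf (centralizer (B : Set G))).Normal] (h : P (XX x)) :
    P (↥(centralizer (B : Set G)) ⧸ B.subgroupOf (centralizer (B : Set G))) := by
  subst hB
  have h1 := centralizer_zpowers_coe x
  revert hn
  rw [h1, subgroupOf_eq]
  intro hn
  exact h

theorem exists_gen {s : G} {p : ℕ} (hp : p.Prime) {B : Subgroup G} (hB : B ≤ centralizer ({z, s} : Set G))
    (hcard : Nat.card ↥B = p) :
    ∃ x : centralizer ({z} : Set G), B = zpowers (x : G) ∧ orderOf x = p ∧ (x : G) * s = s * x := by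
  have hfact : Fact p.Prime := ⟨hp⟩
  obtain ⟨⟨g, hg⟩, hgen⟩ := (isCyclic_of_prime_card hcard : IsCyclic ↥B).exists_generator
  have h1 := mem_joint.1 (hB hg)
  have h2 : B = zpowers g := by
    apply le_antisymm
    · intro b hb
      obtain ⟨i, hi⟩ := Subgroup.mem_zpowers_iff.1 (hgen ⟨b, hb⟩)
      exact Subgroup.mem_zpowers_iff.2 ⟨i, congrArg Subtype.val hi⟩
    · exact (Subgroup.zpowers_le).2 hg
  refine ⟨⟨g, mem_centralizer_singleton_iff.2 h1.1.symm⟩, h2, ?_, h1.2.symm⟩
  rw [← Subgroup.orderOf_coe]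
  show orderOf g = p
  rw [← Nat.card_zpowers, ← h2, hcard]

/-- `pi x` has a nonzero fixed vector -/
theorem fr_ne_one (h : Chart Q z eta pi) {s : G} (hs : s ∈ Q) (h4 : IsType 4 (eta s)) {x : centralizer ({z} : Set G)}
    (hx : (x : G) * s = s * x) : LThreeMB.fr (pi x) ≠ 1 := by
  intro h1
  have h2 := smul_eta h hs hx
  rw [LThreeMB.fr, Nat.card_eq_one_iff_unique] at h1
  obtain ⟨h3, -⟩ := h1
  have h5 := congrArg Subtype.val (h3.elim (⟨eta s, h2⟩ : {v : L2 // pi x • v = v}) ⟨0, smul_zero _⟩)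
  exact (ne_of_type_four h h4).2.2 h5

/-- **The data of the statements on `C_G(B)`.** -/
theorem setup [Finite G] {Q : Subgroup (centralizer ({z} : Set G))} [Q.Normal] (hM : IsOfMonsterType z Q) {s : G}
    (hsQ : ∃ hsc : s ∈ centralizer ({z} : Set G), (⟨s, hsc⟩ : centralizer ({z} : Set G)) ∈ Q) (hs : IsConj z s)
    (hs1 : s ≠ z) : ∃ (eta : G → L2) (pi : centralizer ({z} : Set G) →* Co1), Chart (Bridge.QG Q) z eta pi ∧
      s ∈ Bridge.QG Q ∧ IsType 4 (eta s) ∧ s ≠ 1 := by
  obtain ⟨eta, pi, h⟩ := Bridge.chart_of_type hM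
  have hsQ' : s ∈ Bridge.QG Q := Bridge.mem_QG.2 hsQ
  obtain ⟨g, rfl⟩ := isConj_iff.1 hs
  have h4 : IsType 4 (eta (g * z * g⁻¹)) := Fused.type_four_of_conj h hsQ' hs1
  exact ⟨eta, pi, h, hsQ', h4, (ne_of_type_four h h4).1⟩

end Cfsg.Agent.H820.Joint

private theorem dce_079a4938ad83 : _root_.True := by
  try have : _root_.True := by simp only [_root_.Cfsg.Agent.LThreeMB.fr.eq_1]
  exact _root_.True.intro
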