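import Cfsg.Agent.H820.Model
import Cfsg.Agent.H820.Joint
import Cfsg.Agent.MonsterU.Final_m3
import Cfsg.Agent.CpAutMSeven.SixRow_m3
import Cfsg.Agent.MonsterP.NodesNe
import Cfsg.Agent.FastGrp
import Cfsg.Agent.Prune
set_option linter.all false

section
prune_inst 0x7f00000000000000000000000000000000000000000000000000000000000000000000000000000000000000000000000000000000000000000000000000000000000000000000000000000000000000003fffffffffffffffffffffffffffbeffbdffffffff

-- part: H820/He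
section
set_option linter.all false
open scoped Cfsg.Agent.FastGrp

/-!
# `C_G(x) / ⟨x⟩ ≅ He` for `x` of order 7 and fixed rank 6 in a group with a chart (helper820)

`exists_model` : an isomorphism onto the model compatible with the fixed ranks; `isoHe`.
-/

set_option autoImplicit false
set_option maxRecDepth 100000

namespace Cfsg.Agent.H820.He

open Cfsg Cfsg.Agent.MonsterX Cfsg.Agent.MonsterX.InstData Cfsg.Agent.MonsterU
open Cfsg.Agent.MonsterP Cfsg.Agent.MonsterN
open Cfsg.Agent.LThreeMB (fr XX Zx self KChart.pi KChart.chart exists_XX_equiv card_PB)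
open Cfsg.Agent.MonsterU.Lam2 (L2 IsType)
open Cfsg.Agent.MonsterU.Ch
open Cfsg.Agent.PreUniq (MonRow.cent)
open Cfsg.Spor (Co1)
open Subgroup (centralizer mem_centralizer_singleton_iff zpowers)

/-! ### Two charts of the same centralizer -/

section

variable {G : Type*} [Group G] {Q Q' : Subgroup G} {z : G} {eta eta' : G → L2}
  {pi pi' : Subgroup.centralizer ({z} : Set G) →* Co1}

theorem Q_le (h : Chart Q z eta pi) (h' : Chart Q' z eta' pi') : Q ≤ Q' := by
  have hs : IsSimpleGroup Co1 := Cfsg.Agent.S0399.result.1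
  have hn := LargeExtra.Nine.ToCent.normal h.large
  have hN : ((Q.subgroupOf (centralizer ({z} : Set G))).map pi').Normal := Subgroup.Normal.map hn pi' h'.pi_surj
  rcases hN.eq_bot_or_eq_top with h1 | h1
  · intro q hq
    have hqz : q ∈ centralizer ({z} : Set G) := LargeExtra.Nine.ToCent.le_cent h.large hq
    have h2 : pi' ⟨q, hqz⟩ ∈ (Q.subgroupOf (centralizer ({z} : Set G))).map pi' := ⟨⟨q, hqz⟩, hq, rfl⟩
    rw [h1, Subgroup.mem_bot] at h2
    exact (h'.pi_eq_one ⟨q, hqz⟩).1 h2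
  · exfalso
    have h2 : Nat.card Co1 ∣ 2 ^ 25 := by
      have h3 := Subgroup.card_map_dvd (Q.subgroupOf (centralizer ({z} : Set G))) pi'
      rw [h1, Subgroup.card_top, LargeExtra.Nine.ToCent.card_subgroupOf h.large, h.card_Q] at h3
      exact h3
    rw [CoFrameF.card_Co1] at h2
    norm_num at h2

theorem Q_eq (h : Chart Q z eta pi) (h' : Chart Q' z eta' pi') : Q = Q' := le_antisymm (Q_le h h') (Q_le h' h)

theorem fr_eq (h : Chart Q z eta pi) (h' : Chart Q' z eta' pi') {p : ℕ} (ho : Odd p)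
    {x : centralizer ({z} : Set G)} (hx : x ^ p = 1) : fr (pi x) = fr (pi' x) := by
  have h1 := MFive.card_PB h ho hx
  have h2 := MFive.card_PB h' ho hx
  rw [Q_eq h h', h2] at h1
  omega

end

universe u

variable {G : Type u} [Group G] {Q : Subgroup G} {z : G} {eta : G → L2}
  {pi : Subgroup.centralizer ({z} : Set G) →* Co1}

/-- **The model, with the fixed ranks.** -/
theorem exists_model [Finite G] [IsSimpleGroup G] (h : Chart Q z eta pi) :
    ∃ f : G ≃* ↥InstData.M.G, f z = KDone.K.z ∧ ∀ (x : centralizer ({z} : Set G))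
      (x' : centralizer ({KDone.K.z} : Set ↥InstData.M.G)) (p : ℕ), Odd p → x ^ p = 1 → f x = x' →
        fr (KChart.pi MonRow.cent x') = fr (pi x) := by
  obtain ⟨f, hf⟩ := Model.exists_iso h
  refine ⟨f, hf, ?_⟩
  have hz : z = f.symm KDone.K.z := by rw [← hf, MulEquiv.symm_apply_apply]
  subst hz
  have h' := Cfsg.Agent.H849.Transport.chart_congr f (KChart.chart KDone.lft MonRow.cent)
  intro x x' p ho hx hxx
  rw [fr_eq h h' ho hx]
  have h2 : Transfer.centralizerEquiv f KDone.K.z x = x' := Subtype.ext hxx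
  rw [← h2]
  rfl

/-- isomorphic groups have isomorphic `C(x) / ⟨x⟩` -/
theorem XX_congr {G H : Type*} [Group G] [Group H] (f : G ≃* H) (x : G) : Nonempty (XX x ≃* XX (f x)) := by
  let e : ↥(centralizer ({x} : Set G)) ≃* ↥(centralizer ({f x} : Set H)) :=
    { toFun := fun c => ⟨f (c : G), mem_centralizer_singleton_iff.2 (by
        rw [← map_mul, mem_centralizer_singleton_iff.1 c.2, map_mul])⟩
      invFun := fun c => ⟨f.symm (c : H), mem_centralizer_singleton_iff.2 (by
        have h1 := congrArg f.symm (mem_centralizer_singleton_iff.1 c.2)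
        simpa using h1)⟩
      left_inv := fun c => Subtype.ext (f.symm_apply_apply (c : G))
      right_inv := fun c => Subtype.ext (f.apply_symm_apply (c : H))
      map_mul' := fun a b => Subtype.ext (map_mul f (a : G) (b : G)) }
  refine ⟨QuotientGroup.congr (Zx x) (Zx (f x)) e ?_⟩
  rw [Zx, Zx, MonoidHom.map_zpowers]
  rfl

/-- **`C_G(x) / ⟨x⟩ ≅ He`.** -/
theorem isoHe [Finite G] [IsSimpleGroup G] (h : Chart Q z eta pi) (x : centralizer ({z} : Set G))
    (hx : orderOf x = 7) (hfr : fr (pi x) = 2 ^ 6) : Spor.IsoHe (XX (x : G)) := by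
  obtain ⟨f, hf, hfx⟩ := exists_model h
  have hxz := mem_centralizer_singleton_iff.1 x.2
  have hc : f x ∈ centralizer ({KDone.K.z} : Set ↥InstData.M.G) := by
    rw [mem_centralizer_singleton_iff, ← hf, ← map_mul, hxz, map_mul]
  have h7 : orderOf (⟨f x, hc⟩ : centralizer ({KDone.K.z} : Set ↥InstData.M.G)) = 7 := by
    rw [← Subgroup.orderOf_coe]
    show orderOf (f (x : G)) = 7
    rw [MulEquiv.orderOf_eq, Subgroup.orderOf_coe, hx]
  have hx7 : x ^ 7 = 1 := by rw [← hx, pow_orderOf_eq_one]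
  have h6 : fr (KChart.pi MonRow.cent ⟨f x, hc⟩) = 2 ^ 6 := by
    rw [hfx x ⟨f x, hc⟩ 7 (by decide) hx7 rfl, hfr]
  obtain ⟨e⟩ := BpRankZero.MSix.isoHe_of h7 h6 (CpAutMSeven.SixRow.heHyp _ h7 h6)
  obtain ⟨e'⟩ := XX_congr f (x : G)
  exact ⟨e'.trans e⟩

end Cfsg.Agent.H820.He
end

-- part: H820/Outer
section
set_option linter.all false
open scoped Cfsg.Agent.FastGrp

-- part: H820/OutNodes
section
/-!
# An element of order 7 in the group of the nodes (helper820)

The Coxeter element `x = u v` of the chain `5 - 4 - 3 - 2 - 1 - 0`, with `u = t₅ t₃ t₁` and `v = t₄ t₂ t₀`, and the nodes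
`7`, `9`, that commute with it.
-/

set_option autoImplicit false

namespace Cfsg.Agent.H820.OutNodes

open Cfsg.Agent.Bimonster Cfsg.Agent.Bimonster.Tits

variable {G : Type*} [Group G] {t : ℕ → G}

def cert : List ℕ :=
  [46, 49, 37, 40, 43, 46, 50, 37, 31, 25, 16, 19, 22, 26, 32, 38, 43, 22, 25, 28, 31, 19, 22, 13, 7, 10, 14, 19, 23, 28,
   32, 37, 40, 44, 49, 53, 58, 60, 37, 34, 38, 43, 46, 49, 31, 34, 38, 43, 10, 13, 16, 19, 22, 25, 28, 31, 34, 38, 44, 50,
   16, 19, 23, 13, 17, 22, 26, 31, 34, 37, 40, 43, 11, 16, 19, 22, 26, 31, 34, 5, 10, 13, 16, 19, 22, 26, 31, 35, 40, 44,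
   49, 53, 57, 14, 19, 22, 25, 28, 31, 34, 37, 10, 14, 19, 22, 25, 7, 10, 14, 19, 22, 26, 31, 34, 38, 43, 46, 49, 4, 7,
   10, 14, 19, 22, 26, 31, 34, 38, 43, 1, 4, 7, 10, 14, 19, 22, 26, 31, 34, 38, 44, 50, 54, 16, 19, 22, 13, 16, 10, 5, 11,
   17, 23, 28, 31, 34, 37, 40, 43, 46, 49, 51, 37, 32, 38, 43, 46, 48, 45, 25, 28, 31, 19, 22, 13, 16, 19, 23, 28, 32, 37,
   40, 42, 37, 39, 36, 16, 19, 22, 25, 13, 10, 14, 19, 22, 26, 31, 33, 30, 22, 25, 27, 24, 19, 21, 10, 13, 16, 18, 15, 12,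
   7, 9, 6, 3, 0]

/-- the first involution -/
def uu (t : ℕ → G) : G := t 5 * t 3 * t 1
/-- the second involution -/
def vv (t : ℕ → G) : G := t 4 * t 2 * t 0

theorem seven (h : CoxRel 14 t) : (uu t * vv t) ^ 7 = 1 := by
  have h1 := eq_of_run h.valid (ms := cert) (n := 21) (w := rep 7 [5, 3, 1, 4, 2, 0]) (by decide +kernel)
  rw [ev_rep, one_pow] at h1
  rw [← h1]
  simp only [ev_cons, ev_nil, mul_one, uu, vv, mul_assoc]

theorem uu_sq (h : CoxRel 14 t) : uu t * uu t = 1 := by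
  have h1 := eq_of_run h.valid (ms := [7, 4, 0, 4, 0, 0]) (n := 3) (w := [5, 3, 1, 5, 3, 1]) (by decide +kernel)
  rw [one_pow] at h1
  rw [← h1]
  simp only [ev_cons, ev_nil, mul_one, uu, mul_assoc]

theorem vv_sq (h : CoxRel 14 t) : vv t * vv t = 1 := by
  have h1 := eq_of_run h.valid (ms := [7, 4, 0, 4, 0, 0]) (n := 3) (w := [4, 2, 0, 4, 2, 0]) (by decide +kernel)
  rw [one_pow] at h1
  rw [← h1]
  simp only [ev_cons, ev_nil, mul_one, vv, mul_assoc]

theorem comm {i : ℕ} (h : CoxRel 14 t) (hi : i < 14) (h0 : adjB i 0 = false) (h1 : adjB i 1 = false)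
    (h2 : adjB i 2 = false) (h3 : adjB i 3 = false) (h4 : adjB i 4 = false) (h5 : adjB i 5 = false) :
    Commute (t i) (uu t * vv t) := by
  have c0 : Commute (t i) (t 0) := h.cm i hi 0 (by norm_num) h0
  have c1 : Commute (t i) (t 1) := h.cm i hi 1 (by norm_num) h1
  have c2 : Commute (t i) (t 2) := h.cm i hi 2 (by norm_num) h2
  have c3 : Commute (t i) (t 3) := h.cm i hi 3 (by norm_num) h3
  have c4 : Commute (t i) (t 4) := h.cm i hi 4 (by norm_num) h4
  have c5 : Commute (t i) (t 5) := h.cm i hi 5 (by norm_num) h5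
  exact ((c5.mul_right c3).mul_right c1).mul_right ((c4.mul_right c2).mul_right c0)

theorem comm7 (h : CoxRel 14 t) : Commute (t 7) (uu t * vv t) :=
  comm h (by norm_num) (by decide) (by decide) (by decide) (by decide) (by decide) (by decide)

theorem comm9 (h : CoxRel 14 t) : Commute (t 9) (uu t * vv t) :=
  comm h (by norm_num) (by decide) (by decide) (by decide) (by decide) (by decide) (by decide)

theorem comm79 (h : CoxRel 14 t) : Commute (t 7) (t 9) :=
  h.cm 7 (by norm_num) 9 (by norm_num) (by decide)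

/-- the two nodes are different -/
theorem ne79 (h : CoxRel 14 t) (hne : t 0 ≠ t 1) : t 7 ≠ t 9 := by
  intro e
  have e1 : t 9 = t 10 := MonsterP.NodesNe.step h (by norm_num) (by norm_num) (by norm_num) (by decide) (by decide) e
  have e2 : t 9 = t 8 := MonsterP.NodesNe.step h (by norm_num) (by norm_num) (by norm_num) (by decide) (by decide) e1.symm
  have e3 : t 8 = t 7 := MonsterP.NodesNe.step h (by norm_num) (by norm_num) (by norm_num) (by decide) (by decide) e2
  have e4 : t 7 = t 6 := MonsterP.NodesNe.step h (by norm_num) (by norm_num) (by norm_num) (by decide) (by decide) e3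
  have e5 : t 6 = t 0 := MonsterP.NodesNe.step h (by norm_num) (by norm_num) (by norm_num) (by decide) (by decide) e4
  exact hne (MonsterP.NodesNe.step h (by norm_num) (by norm_num) (by norm_num) (by decide) (by decide) e5)

/-- the product is not trivial -/
theorem ne_one (h : CoxRel 14 t) (hne : t 0 ≠ t 1) : uu t * vv t ≠ 1 := by
  intro e
  have e1 : uu t = vv t := by
    rw [mul_eq_one_iff_eq_inv] at e
    rw [e, inv_eq_iff_mul_eq_one, vv_sq h]
  have c20 : Commute (t 2) (t 0) := h.cm 2 (by norm_num) 0 (by norm_num) (by decide)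
  have c40 : Commute (t 4) (t 0) := h.cm 4 (by norm_num) 0 (by norm_num) (by decide)
  have c30 : Commute (t 3) (t 0) := h.cm 3 (by norm_num) 0 (by norm_num) (by decide)
  have c50 : Commute (t 5) (t 0) := h.cm 5 (by norm_num) 0 (by norm_num) (by decide)
  have c1 : Commute (uu t) (t 0) := by
    rw [e1]
    exact (c40.mul_left c20).mul_left (Commute.refl _)
  have c2 : Commute (t 1) (t 0) := by
    have h1 : t 1 = (t 5 * t 3)⁻¹ * uu t := by
      rw [uu]; group
    rw [h1]
    exact ((c50.mul_left c30).inv_left).mul_left c1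
  have b := h.br 0 (by norm_num) 1 (by norm_num) (by decide)
  rw [← c2.eq, mul_assoc, h.sq 0 (by norm_num), mul_one, c2.eq, mul_assoc, h.sq 1 (by norm_num), mul_one] at b
  exact hne b.symm

/-- the first involution inverts the product -/
theorem conj_uu (h : CoxRel 14 t) : uu t * (uu t * vv t) * (uu t)⁻¹ = (uu t * vv t)⁻¹ := by
  have h1 : (uu t)⁻¹ = uu t := inv_eq_of_mul_eq_one_left (uu_sq h)
  have h2 : (vv t)⁻¹ = vv t := inv_eq_of_mul_eq_one_left (vv_sq h)
  rw [mul_inv_rev, h1, h2, ← mul_assoc, uu_sq h, one_mul]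

theorem uu_ne (h : CoxRel 14 t) (hne : t 0 ≠ t 1) : uu t ≠ 1 := by
  intro e
  have h1 := seven h
  rw [e, one_mul] at h1
  have h2 : vv t = 1 := by
    have h3 : (vv t) ^ 7 = vv t := by
      have h4 : (vv t) ^ 2 = 1 := by rw [pow_two, vv_sq h]
      calc (vv t) ^ 7 = ((vv t) ^ 2) ^ 3 * vv t := by rw [← pow_mul, ← pow_succ]
        _ = vv t := by rw [h4, one_pow, one_mul]
    rw [← h3, h1]
  exact ne_one h hne (by rw [e, h2, one_mul])

/-- the order is 7 -/
theorem orderOf_prod (h : CoxRel 14 t) (hne : t 0 ≠ t 1) : orderOf (uu t * vv t) = 7 := by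
  have : Fact (Nat.Prime 7) := ⟨by norm_num⟩
  exact orderOf_eq_prime (seven h) (ne_one h hne)

end Cfsg.Agent.H820.OutNodes
end

-- part: H820/Outer
section
/-!
# An involution inverting an element of order 7 and fixed rank 6 (helper820)

`exists_involution` : from the element `OutNodes.uu y * OutNodes.vv y` of the model; `exists_cube` : `x` is conjugate to `x ^ 3`.
-/

set_option autoImplicit false
set_option maxRecDepth 100000

namespace Cfsg.Agent.H820.Outer

open Cfsg Cfsg.Agent.MonsterX Cfsg.Agent.MonsterX.InstData Cfsg.Agent.MonsterU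
open Cfsg.Agent.MonsterP Cfsg.Agent.MonsterN
open Cfsg.Agent.LThreeMB (fr XX Zx self KChart.pi KChart.chart exists_XX_equiv card_PB)
open Cfsg.Agent.MonsterU.Lam2 (L2 IsType)
open Cfsg.Agent.MonsterU.Ch
open Cfsg.Agent.PreUniq (MonRow.cent)
open Cfsg.Spor (Co1)
open Subgroup (centralizer mem_centralizer_singleton_iff zpowers)

/-- an element of `C(z)` of order 7 that commutes with a Klein four-group does not have the fixed rank 0 -/
theorem fr_ne_one {x : centralizer ({KDone.K.z} : Set ↥InstData.M.G)} (hx : orderOf x = 7) {a b : ↥InstData.M.G}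
    (ha : a * a = 1) (hb : b * b = 1) (ha1 : a ≠ 1) (hb1 : b ≠ 1) (hab : a ≠ b) (hc : a * b = b * a)
    (hax : a * x = x * a) (hbx : b * x = x * b) : fr (KChart.pi MonRow.cent x) ≠ 1 := by
  intro hfr
  have hfin := PreUniq.MonRow.finite
  have h := KChart.chart KDone.lft MonRow.cent
  have hx7 : x ^ 7 = 1 := by rw [← hx, pow_orderOf_eq_one]
  have : Fact (Nat.Prime 2) := ⟨Nat.prime_two⟩
  let D := centralizer ({(x : ↥InstData.M.G)} : Set ↥InstData.M.G)
  let a' : ↥D := ⟨a, mem_centralizer_singleton_iff.2 hax⟩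
  let b' : ↥D := ⟨b, mem_centralizer_singleton_iff.2 hbx⟩
  have hoa : orderOf a' = 2 := by
    rw [← Subgroup.orderOf_coe]
    exact orderOf_eq_prime (by rw [pow_two]; exact ha) ha1
  have honly := BpRankZero.Seven.only_zD KDone.lft MonRow.cent hx7 hfr
  obtain ⟨g, hg⟩ := BpRankZero.isConj_of_one (MFive.orderOf_zD h x) honly (u := a') hoa
  have hbb : b' * b' = 1 := Subtype.ext hb
  have hab' : a' * b' = b' * a' := Subtype.ext hc
  rcases honly (g * b' * g⁻¹) (by
      calc g * b' * g⁻¹ * (g * b' * g⁻¹) = g * (b' * b') * g⁻¹ := by group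
        _ = 1 := by rw [hbb]; group) (by
      rw [← hg]
      calc g * b' * g⁻¹ * (g * a' * g⁻¹) = g * (b' * a') * g⁻¹ := by group
        _ = g * (a' * b') * g⁻¹ := by rw [hab']
        _ = g * a' * g⁻¹ * (g * b' * g⁻¹) := by group) with h1 | h1
  · have h2 : b' = 1 := by
      calc b' = g⁻¹ * (g * b' * g⁻¹) * g := by group
        _ = 1 := by rw [h1]; group
    exact hb1 (congrArg Subtype.val h2)
  · have h2 : b' = a' := by
      calc b' = g⁻¹ * (g * b' * g⁻¹) * g := by group
        _ = g⁻¹ * (g * a' * g⁻¹) * g := by rw [h1, hg]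
        _ = a' := by group
    exact hab (congrArg Subtype.val h2).symm

/-- **An involution of the model inverting an element of order 7 and fixed rank 6.** -/
theorem exists_in_model : ∃ (x : centralizer ({KDone.K.z} : Set ↥InstData.M.G)) (t : ↥InstData.M.G),
    orderOf x = 7 ∧ fr (KChart.pi MonRow.cent x) = 2 ^ 6 ∧ t * t = 1 ∧ t ≠ 1 ∧
      t * x * t⁻¹ = (x : ↥InstData.M.G)⁻¹ := by
  have hfin := PreUniq.MonRow.finite
  have h := KChart.chart KDone.lft MonRow.cent
  have hc := (NodesGrp.prel LitFin.H).cox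
  have hne := NodesNe.ne LitFin.H
  set y := NodesGrp.y LitFin.H with hy
  have h7 := OutNodes.orderOf_prod hc hne
  have ha := hc.sq 7 (by norm_num)
  have hb := hc.sq 9 (by norm_num)
  have ha1 : y 7 ≠ 1 := NodesNe.ne_one LitFin.H (by norm_num)
  have hb1 : y 9 ≠ 1 := NodesNe.ne_one LitFin.H (by norm_num)
  have hab := OutNodes.ne79 hc hne
  have hcc := OutNodes.comm79 hc
  have hax := OutNodes.comm7 hc
  have hbx := OutNodes.comm9 hc
  have ht := OutNodes.uu_sq hc
  have ht1 := OutNodes.uu_ne hc hne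
  have hti := OutNodes.conj_uu hc
  set x := OutNodes.uu y * OutNodes.vv y
  set t := OutNodes.uu y
  have he : 2 ∣ Nat.card ↥(centralizer ({x} : Set ↥InstData.M.G)) := by
    have h1 : orderOf (⟨y 7, mem_centralizer_singleton_iff.2 hax.eq⟩ : centralizer ({x} : Set ↥InstData.M.G)) = 2 := by
      rw [← Subgroup.orderOf_coe]
      have : Fact (Nat.Prime 2) := ⟨Nat.prime_two⟩
      exact orderOf_eq_prime (by rw [pow_two]; exact ha) ha1
    rw [← h1]
    exact orderOf_dvd_natCard _
  obtain ⟨g, hg⟩ := MSevenT.hex7 x h7 he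
  have h1 : (g⁻¹ * x * g) * KDone.K.z = KDone.K.z * (g⁻¹ * x * g) := by
    calc (g⁻¹ * x * g) * KDone.K.z = g⁻¹ * (x * (g * KDone.K.z * g⁻¹)) * g := by group
      _ = g⁻¹ * ((g * KDone.K.z * g⁻¹) * x) * g := by rw [hg]
      _ = KDone.K.z * (g⁻¹ * x * g) := by group
  let x' : centralizer ({KDone.K.z} : Set ↥InstData.M.G) := ⟨g⁻¹ * x * g, mem_centralizer_singleton_iff.2 h1⟩
  have hx' : orderOf x' = 7 := by
    rw [← Subgroup.orderOf_coe, ← h7]
    have h2 : (MulAut.conj g⁻¹) x = (x' : ↥InstData.M.G) := by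
      show g⁻¹ * x * g⁻¹⁻¹ = g⁻¹ * x * g
      rw [inv_inv]
    rw [← h2]
    exact MulEquiv.orderOf_eq (MulAut.conj g⁻¹) x
  have key : ∀ {c : ↥InstData.M.G}, Commute c x → (g⁻¹ * c * g) * (g⁻¹ * x * g) = (g⁻¹ * x * g) * (g⁻¹ * c * g) := by
    intro c hc
    calc (g⁻¹ * c * g) * (g⁻¹ * x * g) = g⁻¹ * (c * x) * g := by group
      _ = g⁻¹ * (x * c) * g := by rw [hc.eq]
      _ = (g⁻¹ * x * g) * (g⁻¹ * c * g) := by group
  have ksq : ∀ {c : ↥InstData.M.G}, c * c = 1 → (g⁻¹ * c * g) * (g⁻¹ * c * g) = 1 := by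
    intro c hc
    calc (g⁻¹ * c * g) * (g⁻¹ * c * g) = g⁻¹ * (c * c) * g := by group
      _ = 1 := by rw [hc]; group
  have kinj : ∀ {c d : ↥InstData.M.G}, g⁻¹ * c * g = g⁻¹ * d * g → c = d := by
    intro c d hcd
    calc c = g * (g⁻¹ * c * g) * g⁻¹ := by group
      _ = g * (g⁻¹ * d * g) * g⁻¹ := by rw [hcd]
      _ = d := by group
  have kne : ∀ {c : ↥InstData.M.G}, c ≠ 1 → g⁻¹ * c * g ≠ 1 := by
    intro c hc h3
    exact hc (kinj (h3.trans (by group)))
  refine ⟨x', g⁻¹ * t * g, hx', ?_, ksq ht, kne ht1, ?_⟩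
  · rcases CpAutMSeven.RanksH.ranks (KChart.pi MonRow.cent x')
      (MFive.orderOf_pi h (by norm_num) (by decide) hx') with h4 | h4
    · exact absurd h4 (fr_ne_one hx' (a := g⁻¹ * y 7 * g) (b := g⁻¹ * y 9 * g) (ksq ha) (ksq hb) (kne ha1) (kne hb1)
        (fun h5 => hab (kinj h5)) (by
          calc g⁻¹ * y 7 * g * (g⁻¹ * y 9 * g) = g⁻¹ * (y 7 * y 9) * g := by group
            _ = g⁻¹ * (y 9 * y 7) * g := by rw [hcc.eq]
            _ = g⁻¹ * y 9 * g * (g⁻¹ * y 7 * g) := by group) (key hax) (key hbx))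
    · exact h4
  · show (g⁻¹ * t * g) * (g⁻¹ * x * g) * (g⁻¹ * t * g)⁻¹ = (g⁻¹ * x * g)⁻¹
    calc (g⁻¹ * t * g) * (g⁻¹ * x * g) * (g⁻¹ * t * g)⁻¹ = g⁻¹ * (t * x * t⁻¹) * g := by group
      _ = (g⁻¹ * x * g)⁻¹ := by rw [hti]; group

universe u

variable {G : Type u} [Group G] {Q : Subgroup G} {z : G} {eta : G → L2}
  {pi : Subgroup.centralizer ({z} : Set G) →* Co1}

/-- two elements of `C(z)` of order 7 and fixed rank 6 are conjugate in `C(z)` -/
theorem exists_conj (h : Chart Q z eta pi) {x y : centralizer ({z} : Set G)} (hx : orderOf x = 7)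
    (hfx : fr (pi x) = 2 ^ 6) (hy : orderOf y = 7) (hfy : fr (pi y) = 2 ^ 6) :
    ∃ c : centralizer ({z} : Set G), c * x * c⁻¹ = y := by
  have hp : Nat.Prime 7 := by norm_num
  have ho : Odd 7 := by decide
  obtain ⟨s, hs⟩ := CpAutMSeven.RanksH.classOf (pi x) (pi y) (MFive.orderOf_pi h hp ho hx)
    (MFive.orderOf_pi h hp ho hy) hfx hfy
  exact MFive.exists_conj_of_conj h hp ho (by rw [← hx, pow_orderOf_eq_one]) (by rw [← hy, pow_orderOf_eq_one]) hs

/-- **The element is inverted by an involution.** -/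
theorem exists_involution [Finite G] [IsSimpleGroup G] (h : Chart Q z eta pi) (x : centralizer ({z} : Set G))
    (hx : orderOf x = 7) (hfr : fr (pi x) = 2 ^ 6) : ∃ t : G, t * t = 1 ∧ t ≠ 1 ∧ t * x * t⁻¹ = (x : G)⁻¹ := by
  obtain ⟨f, hf, hfx⟩ := He.exists_model h
  have hxz := mem_centralizer_singleton_iff.1 x.2
  have hc : f x ∈ centralizer ({KDone.K.z} : Set ↥InstData.M.G) := by
    rw [mem_centralizer_singleton_iff, ← hf, ← map_mul, hxz, map_mul]
  have h7 : orderOf (⟨f x, hc⟩ : centralizer ({KDone.K.z} : Set ↥InstData.M.G)) = 7 := by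
    rw [← Subgroup.orderOf_coe]
    show orderOf (f (x : G)) = 7
    rw [MulEquiv.orderOf_eq, Subgroup.orderOf_coe, hx]
  have hx7 : x ^ 7 = 1 := by rw [← hx, pow_orderOf_eq_one]
  have h6 : fr (KChart.pi MonRow.cent ⟨f x, hc⟩) = 2 ^ 6 := by
    rw [hfx x ⟨f x, hc⟩ 7 (by decide) hx7 rfl, hfr]
  obtain ⟨y, t, hy, hfy, htt, ht1, hty⟩ := exists_in_model
  obtain ⟨c, hcy⟩ := exists_conj (KChart.chart KDone.lft MonRow.cent) hy hfy h7 h6
  have hcy' : (c : ↥InstData.M.G) * y * (c : ↥InstData.M.G)⁻¹ = f x := congrArg Subtype.val hcy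
  set d : G := f.symm (c : ↥InstData.M.G) with hd
  have hfd : f d = c := f.apply_symm_apply _
  refine ⟨d * f.symm t * d⁻¹, ?_, ?_, ?_⟩
  · have h1 : f.symm t * f.symm t = 1 := by rw [← map_mul, htt, map_one]
    calc d * f.symm t * d⁻¹ * (d * f.symm t * d⁻¹) = d * (f.symm t * f.symm t) * d⁻¹ := by group
      _ = 1 := by rw [h1]; group
  · intro h1
    apply ht1
    have h2 : f.symm t = 1 := by
      calc f.symm t = d⁻¹ * (d * f.symm t * d⁻¹) * d := by group
        _ = 1 := by rw [h1]; group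
    exact f.symm.injective (h2.trans (map_one f.symm).symm)
  · apply f.injective
    simp only [map_mul, map_inv, f.apply_symm_apply, hfd, ← hcy']
    calc (c : ↥InstData.M.G) * t * (c : ↥InstData.M.G)⁻¹ * ((c : ↥InstData.M.G) * y * (c : ↥InstData.M.G)⁻¹) *
          ((c : ↥InstData.M.G) * t * (c : ↥InstData.M.G)⁻¹)⁻¹ =
        (c : ↥InstData.M.G) * (t * y * t⁻¹) * (c : ↥InstData.M.G)⁻¹ := by group
      _ = ((c : ↥InstData.M.G) * y * (c : ↥InstData.M.G)⁻¹)⁻¹ := by rw [hty]; group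

/-- **The element is conjugate to its cube.** -/
theorem exists_cube (h : Chart Q z eta pi) (x : centralizer ({z} : Set G))
    (hx : orderOf x = 7) (hfr : fr (pi x) = 2 ^ 6) : ∃ c : G, c * x * c⁻¹ = (x : G) ^ 3 := by
  have h3 : orderOf (x ^ 3) = 7 := by
    rw [Nat.Coprime.orderOf_pow (by rw [hx]; norm_num), hx]
  have hf3 : fr (pi (x ^ 3)) = 2 ^ 6 := by
    rw [map_pow]
    apply le_antisymm
    · rw [← hfr]
      apply BpRankZero.Seven.fr_le_of_mem
      have h1 : pi x = ((pi x) ^ 3) ^ 5 := by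
        have h2 : (pi x) ^ 7 = 1 := by rw [← map_pow, ← hx, pow_orderOf_eq_one, map_one]
        rw [← pow_mul]
        calc pi x = pi x * ((pi x) ^ 7) ^ 2 := by rw [h2, one_pow, mul_one]
          _ = (pi x) ^ (3 * 5) := by rw [← pow_mul, ← pow_succ']
      nth_rewrite 2 [h1]
      exact Subgroup.npow_mem_zpowers _ _
    · rw [← hfr]
      exact BpRankZero.Seven.fr_le_of_mem (Subgroup.npow_mem_zpowers _ _)
  obtain ⟨c, hc⟩ := exists_conj h hx hfr h3 hf3
  exact ⟨c, congrArg Subtype.val hc⟩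

end Cfsg.Agent.H820.Outer
end

private theorem dce_20cbb65e2f44 : _root_.True := by
  try have : _root_.True := by simp only [_root_.Cfsg.Agent.H820.OutNodes.vv.eq_1]
  try have : _root_.True := by simp only [_root_.Cfsg.Agent.H820.OutNodes.uu.eq_1]
  exact _root_.True.intro
end
end
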